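import Groth.Agent.Comod.Reductive
import Mathlib

/-!
# An integral descends to a subgroup with affine quotient
-/

set_option autoImplicit false
set_option maxHeartbeats 1000000
set_option synthInstance.maxHeartbeats 100000

universe u

open TensorProduct Coalgebra

namespace Groth.Agent.ObsAffine

open Groth.Agent.Comod

variable {k B G H : Type u} [Field k] [CommRing B] [CommRing G] [CommRing H] [HopfAlgebra k H]
  [Algebra k B] [Algebra k G] [Algebra B G] [IsScalarTower k B G] [Module.FaithfullyFlat B G]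

noncomputable section

/-- An invariant normalised functional on the coordinate ring of a torsor with affine base gives local integrals. -/
theorem hasLocalIntegral (δ : G →ₐ[k] G ⊗[k] H)
    (hcoassoc : ∀ g, Algebra.TensorProduct.map δ (AlgHom.id k H) (δ g) =
      (Algebra.TensorProduct.assoc k k k G H H).symm
        (Algebra.TensorProduct.map (AlgHom.id k G) (Bialgebra.comulAlgHom k H) (δ g)))
    (hB : ∀ b : B, δ (algebraMap B G b) = algebraMap B G b ⊗ₜ[k] (1 : H))
    (can : G ⊗[B] G →ₐ[k] G ⊗[k] H) (hc : ∀ a b, can (a ⊗ₜ b) = a ⊗ₜ (1 : H) * δ b)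
    (hbij : Function.Bijective can)
    (Λ : G →ₗ[k] k) (hΛ1 : Λ 1 = 1) (hΛ : ∀ g, cL Λ (δ g) = algebraMap k H (Λ g)) :
    HasLocalIntegral k H := by
  classical
  intro s
  obtain ⟨D₀, hD₀, hfin⟩ := exists_finite_subcomod_finset (K := k) (C := H) (V := H) (insert 1 s)
  let D := ofDSub D₀
  letI cD := ComodSub.Comod.restr (inferInstance : HopfRep.Comod k H H) D (isSubcomod_ofDSub D₀)
  let e := Module.finBasis k D
  let n := Module.finrank k D
  let M : Matrix (Fin n) (Fin n) H := coMatrix (A := H) e
  have he : ∀ j, comul (R := k) (e j : H) = ∑ i, (e i : H) ⊗ₜ[k] M i j := fun j => by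
    have h1 := ComodSub.restr_coact_coe (inferInstance : HopfRep.Comod k H H) D (isSubcomod_ofDSub D₀) (e j)
    rw [coact_basis e j, map_sum] at h1
    exact h1.symm
  let one : D := ⟨1, hD₀ 1 (Finset.mem_insert_self _ _)⟩
  let c : Fin n → k := fun i => e.repr one i
  have hone : ∑ j, c j • (e j : H) = 1 := by
    have := congr_arg Subtype.val (e.sum_repr one)
    simp only [AddSubmonoidClass.coe_finsetSum, Submodule.coe_smul] at this
    exact this
  haveI : SMulCommClass k B G := inferInstance
  -- linear maps over the base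
  let δB : G →ₗ[B] G ⊗[k] H :=
    { toFun := δ
      map_add' := map_add δ
      map_smul' := fun b g => by
        rw [RingHom.id_apply, Algebra.smul_def, map_mul, hB, Algebra.smul_def]
        rfl }
  let mk' : H → (G →ₗ[B] G ⊗[k] H) := fun h =>
    { toFun := fun g => g ⊗ₜ[k] h
      map_add' := fun x y => TensorProduct.add_tmul x y h
      map_smul' := fun b g => by rw [RingHom.id_apply, TensorProduct.smul_tmul'] }
  let E : (Fin n → G) →ₗ[B] (Fin n → G ⊗[k] H) :=
    LinearMap.pi fun l => δB ∘ₗ LinearMap.proj l - ∑ j, mk' (M j l) ∘ₗ LinearMap.proj j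
  let u : (Fin n → G) →ₗ[B] G := ∑ j, c j • LinearMap.proj j
  choose x hx using fun j => hbij.2 ((1 : G) ⊗ₜ[k] (e j : H))
  let X : G ⊗[B] (Fin n → G) := ∑ j, LinearMap.lTensor G (LinearMap.single B (fun _ : Fin n => G) j) (x j)
  -- comparison with an injective map
  let A1 : (G ⊗[B] G) ⊗[k] H ≃ₐ[B] G ⊗[B] (G ⊗[k] H) := Algebra.TensorProduct.assoc k B B G G H
  let Φ : G ⊗[B] (G ⊗[k] H) → (G ⊗[k] H) ⊗[k] H := fun z =>
    Algebra.TensorProduct.map can (AlgHom.id k H) (A1.symm z)
  have hΦt : ∀ a g h, Φ (a ⊗ₜ[B] (g ⊗ₜ[k] h)) = can (a ⊗ₜ g) ⊗ₜ[k] h := fun a g h => rfl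
  have hΦadd : ∀ y z, Φ (y + z) = Φ y + Φ z := fun y z => by simp [Φ]
  have hΦinj : Function.Injective Φ := by
    have h1 : Function.Injective (Algebra.TensorProduct.map can (AlgHom.id k H)) :=
      Module.Flat.rTensor_preserves_injective_linearMap (M := H) can.toLinearMap hbij.1
    exact h1.comp A1.symm.injective
  have h1 : ∀ y, Φ (LinearMap.lTensor G δB y) =
      (Algebra.TensorProduct.assoc k k k G H H).symm
        (Algebra.TensorProduct.map (AlgHom.id k G) (Bialgebra.comulAlgHom k H) (can y)) := by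
    intro y
    induction y using TensorProduct.induction_on with
    | zero => simp [Φ]
    | add p q hp hq => simp only [map_add, hΦadd, hp, hq]
    | tmul a b =>
      rw [LinearMap.lTensor_tmul, hc, map_mul, map_mul, ← hcoassoc]
      show Φ (a ⊗ₜ[B] δ b) = _
      generalize δ b = w
      induction w using TensorProduct.induction_on with
      | zero => simp [Φ]
      | add p q hp hq => simp only [TensorProduct.tmul_add, map_add, hΦadd, hp, hq, mul_add]
      | tmul g h =>
        rw [hΦt, hc, Algebra.TensorProduct.map_tmul, Algebra.TensorProduct.map_tmul, map_one, AlgHom.id_apply,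
          AlgHom.id_apply, Algebra.TensorProduct.one_def (A := H) (B := H),
          Algebra.TensorProduct.assoc_symm_tmul, Algebra.TensorProduct.tmul_mul_tmul, one_mul]
  have h2 : ∀ h y, Φ (LinearMap.lTensor G (mk' h) y) = can y ⊗ₜ[k] h := by
    intro h y
    induction y using TensorProduct.induction_on with
    | zero => simp [Φ]
    | add p q hp hq => simp only [map_add, hΦadd, hp, hq, TensorProduct.add_tmul]
    | tmul a b => exact hΦt a b h
  have hΦsub : ∀ y z, Φ (y - z) = Φ y - Φ z := fun y z => by simp [Φ]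
  have hΦsum : ∀ (f : Fin n → G ⊗[B] (G ⊗[k] H)), Φ (∑ j, f j) = ∑ j, Φ (f j) := fun f => by simp [Φ]
  have hX : LinearMap.lTensor G E X = 0 := by
    apply (TensorProduct.piRight B B G fun _ : Fin n => G ⊗[k] H).injective
    rw [map_zero]
    funext l
    have hpr : ∀ z : G ⊗[B] (Fin n → G ⊗[k] H), TensorProduct.piRight B B G (fun _ : Fin n => G ⊗[k] H) z l =
        LinearMap.lTensor G (LinearMap.proj l) z := by
      intro z
      induction z using TensorProduct.induction_on with
      | zero => simp
      | add p q hp hq => simp only [map_add, Pi.add_apply, hp, hq]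
      | tmul a f => simp
    have hsing : ∀ j l, (LinearMap.proj l : (Fin n → G) →ₗ[B] G) ∘ₗ LinearMap.single B (fun _ : Fin n => G) j =
        if j = l then LinearMap.id else 0 := fun j l => by
      ext g
      by_cases h : j = l
      · subst h; simp
      · simp [h, Ne.symm h]
    have hproj : ∀ l, LinearMap.lTensor G (LinearMap.proj l : (Fin n → G) →ₗ[B] G) X = x l := by
      intro l
      simp only [X, map_sum, ← LinearMap.lTensor_comp_apply, hsing]
      rw [Finset.sum_eq_single l]
      · simp
      · intro j _ hj; simp [hj]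
      · simp
    rw [hpr, Pi.zero_apply, ← LinearMap.lTensor_comp_apply, LinearMap.proj_pi, LinearMap.lTensor_sub,
      LinearMap.sub_apply, LinearMap.lTensor_comp_apply, hproj]
    have hs : LinearMap.lTensor G (∑ j, mk' (M j l) ∘ₗ (LinearMap.proj j : (Fin n → G) →ₗ[B] G)) X =
        ∑ j, LinearMap.lTensor G (mk' (M j l)) (x j) := by
      rw [show LinearMap.lTensor G (∑ j, mk' (M j l) ∘ₗ (LinearMap.proj j : (Fin n → G) →ₗ[B] G)) =
        ∑ j, LinearMap.lTensor G (mk' (M j l) ∘ₗ (LinearMap.proj j : (Fin n → G) →ₗ[B] G)) from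
        map_sum (LinearMap.lTensorHom G) _ _, LinearMap.sum_apply]
      exact Finset.sum_congr rfl fun j _ => by rw [LinearMap.lTensor_comp_apply, hproj]
    rw [hs]
    apply hΦinj
    rw [hΦsub, hΦsum, h1, show Φ 0 = 0 by simp [Φ]]
    simp only [h2, hx, Algebra.TensorProduct.map_tmul, AlgHom.id_apply, Bialgebra.comulAlgHom_apply, he,
      TensorProduct.tmul_sum, map_sum, Algebra.TensorProduct.assoc_symm_tmul]
    exact sub_self _
  -- an invariant solution
  obtain ⟨w, hw⟩ := (Module.Flat.lTensor_exact G (LinearMap.exact_subtype_ker_map E) X).1 hX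
  have hu : LinearMap.lTensor G u X = (1 : G) ⊗ₜ[B] (1 : G) := by
    apply hbij.1
    rw [hc, map_one, mul_one, ← hone]
    simp only [X, u, map_sum, ← LinearMap.lTensor_comp_apply, TensorProduct.tmul_sum]
    refine Finset.sum_congr rfl fun j _ => ?_
    have : (∑ i, c i • (LinearMap.proj i : (Fin n → G) →ₗ[B] G)) ∘ₗ LinearMap.single B (fun _ : Fin n => G) j =
        c j • LinearMap.id := by
      ext g
      simp [Finset.sum_apply, Pi.single_apply, LinearMap.sum_apply]
    rw [this]
    have hsm : ∀ z : G ⊗[B] G, LinearMap.lTensor G (c j • (LinearMap.id : G →ₗ[B] G)) z = c j • z := by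
      intro z
      induction z using TensorProduct.induction_on with
      | zero => simp
      | add p q hp hq => simp only [map_add, hp, hq, smul_add]
      | tmul a b => simp [TensorProduct.tmul_smul]
    rw [hsm, map_smul, hx, TensorProduct.tmul_smul]
  let J : Submodule B G := LinearMap.range (u ∘ₗ (LinearMap.ker E).subtype)
  have h1J : (1 : G) ∈ J := by
    rw [← Submodule.Quotient.mk_eq_zero J]
    refine Module.FaithfullyFlat.tensorProduct_mk_injective (A := B) (B := G) (G ⧸ J) ?_
    rw [map_zero]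
    show (1 : G) ⊗ₜ[B] Submodule.Quotient.mk (p := J) (1 : G) = 0
    have := congrArg (LinearMap.lTensor G J.mkQ) hu
    rw [← hw, ← LinearMap.lTensor_comp_apply, ← LinearMap.lTensor_comp_apply,
      show (J.mkQ ∘ₗ u) ∘ₗ (LinearMap.ker E).subtype = 0 from
      LinearMap.ext fun w' => (Submodule.Quotient.mk_eq_zero J).2 ⟨w', rfl⟩] at this
    simpa using this.symm
  obtain ⟨⟨y, hy⟩, hy1⟩ := h1J
  have hy' : ∀ l, δ (y l) = ∑ j, y j ⊗ₜ[k] M j l := fun l => by
    have := congrFun (show E y = 0 from hy) l
    simpa [E, δB, mk', sub_eq_zero] using this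
  -- the functional
  obtain ⟨l₀, hl₀⟩ := (e.constr k fun j => Λ (y j)).exists_extend
  have hle : ∀ j, l₀ (e j : H) = Λ (y j) := fun j => (congr($hl₀ (e j))).trans (by simp)
  refine ⟨l₀, ?_, fun a ha => ?_⟩
  · rw [← hone, map_sum]
    simp only [map_smul, hle]
    rw [← hΛ1, show (1 : G) = u y from hy1.symm]
    simp [u, LinearMap.sum_apply]
  · show cL l₀ (comul (R := k) a) = (Algebra.linearMap k H ∘ₗ l₀) a
    refine LinearMap.congr_fun (f := cL l₀ ∘ₗ comul ∘ₗ D.subtype)
      (g := Algebra.linearMap k H ∘ₗ l₀ ∘ₗ D.subtype) (e.ext fun j => ?_) ⟨a, hD₀ a (Finset.mem_insert_of_mem ha)⟩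
    simp only [LinearMap.comp_apply, Submodule.subtype_apply, he, map_sum, cL_tmul, hle, Algebra.linearMap_apply]
    rw [← hΛ, hy', map_sum]
    simp only [cL_tmul]
    rfl

end

end Groth.Agent.ObsAffine
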