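import Groth.Agent.ObsAffine.Integral
import Groth.Prelude.Def_CoactBr
import Groth.Prelude.Def_RedSub
import Mathlib

/-!
# Linear reductivity of a subgroup with affine quotient
-/

set_option autoImplicit false
set_option backward.isDefEq.respectTransparency false
set_option backward.isDefEq.respectTransparency.types false
set_option linter.style.haveILetI false
set_option maxHeartbeats 1000000
set_option synthInstance.maxHeartbeats 100000

universe u

open CategoryTheory CategoryTheory.Limits MonoidalCategory CartesianMonoidalCategory AlgebraicGeometry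
open scoped MonObj TensorProduct
open TensorProduct Coalgebra

namespace Groth.Agent.ObsAffine

open Groth.Agent.Comod

variable {k : Type u} [Field k] {AG AH : Type u} [CommRing AG] [HopfAlgebra k AG] [CommRing AH] [HopfAlgebra k AH]

noncomputable local instance braidedAlgSpecK (R : Type u) [CommRing R] : (algSpec (CommRingCat.of R)).Braided :=
  braidedAlgSpec

/-- The right coaction of a subgroup on the group. -/
noncomputable def coactR (ψ : AG →ₐc[k] AH) : AG →ₐ[k] AG ⊗[k] AH :=
  (Algebra.TensorProduct.map (AlgHom.id k AG) (ψ : AG →ₐ[k] AH)).comp (Bialgebra.comulAlgHom k AG)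

theorem coactR_coassoc (ψ : AG →ₐc[k] AH) (g : AG) :
    Algebra.TensorProduct.map (coactR ψ) (AlgHom.id k AH) (coactR ψ g) =
      (Algebra.TensorProduct.assoc k k k AG AH AH).symm
        (Algebra.TensorProduct.map (AlgHom.id k AG) (Bialgebra.comulAlgHom k AH) (coactR ψ g)) := by
  let L : AG ⊗[k] AG →ₗ[k] AG ⊗[k] AH := (ψ : AG →ₗ[k] AH).lTensor AG
  let F : (AG ⊗[k] AG) ⊗[k] AG →ₗ[k] (AG ⊗[k] AH) ⊗[k] AH := TensorProduct.map L (ψ : AG →ₗ[k] AH)
  have e1 : ∀ y : AG ⊗[k] AG,
      Algebra.TensorProduct.map (coactR ψ) (AlgHom.id k AH)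
        (Algebra.TensorProduct.map (AlgHom.id k AG) (ψ : AG →ₐ[k] AH) y) =
      F ((comul (R := k) (A := AG)).rTensor AG y) := by
    intro y
    induction y using TensorProduct.induction_on with
    | zero => simp
    | add p q hp hq => simp only [map_add, hp, hq]
    | tmul a b => rfl
  have e2 : ∀ y : AG ⊗[k] AG,
      (Algebra.TensorProduct.assoc k k k AG AH AH).symm
        (Algebra.TensorProduct.map (AlgHom.id k AG) (Bialgebra.comulAlgHom k AH)
          (Algebra.TensorProduct.map (AlgHom.id k AG) (ψ : AG →ₐ[k] AH) y)) =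
      F ((TensorProduct.assoc k AG AG AG).symm ((comul (R := k) (A := AG)).lTensor AG y)) := by
    intro y
    induction y using TensorProduct.induction_on with
    | zero => simp
    | add p q hp hq => simp only [map_add, hp, hq]
    | tmul a b =>
      rw [Algebra.TensorProduct.map_tmul, Algebra.TensorProduct.map_tmul, LinearMap.lTensor_tmul,
        Bialgebra.comulAlgHom_apply, AlgHom.id_apply, AlgHom.id_apply]
      rw [show comul (R := k) ((ψ : AG →ₐ[k] AH) b) = TensorProduct.map (ψ : AG →ₗ[k] AH) (ψ : AG →ₗ[k] AH) (comul b)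
        from (CoalgHomClass.map_comp_comul_apply ψ b).symm]
      generalize comul (R := k) b = w
      induction w using TensorProduct.induction_on with
      | zero => simp
      | add p q hp hq => simp only [map_add, TensorProduct.tmul_add, hp, hq]
      | tmul c d => rfl
  show Algebra.TensorProduct.map (coactR ψ) (AlgHom.id k AH)
      (Algebra.TensorProduct.map (AlgHom.id k AG) (ψ : AG →ₐ[k] AH) (comul g)) =
    (Algebra.TensorProduct.assoc k k k AG AH AH).symm (Algebra.TensorProduct.map (AlgHom.id k AG)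
      (Bialgebra.comulAlgHom k AH) (Algebra.TensorProduct.map (AlgHom.id k AG) (ψ : AG →ₐ[k] AH) (comul g)))
  rw [e1, e2, Coalgebra.coassoc_symm_apply]

theorem isLinearlyReductive_of_affine (hG : HopfRep.IsLinearlyReductive k AG) (ψ : AG →ₐc[k] AH)
    [IsMonHom (CoactBr.pt (ψ : AG →ₐ[k] AH))]
    (Q : Over (Spec (CommRingCat.of k))) (q : CoactBr.sp k AG ⟶ Q)
    (hq : RedSub.IsQuotient (CoactBr.pt (ψ : AG →ₐ[k] AH)) q) [IsAffine Q.left] :
    HopfRep.IsLinearlyReductive k AH := by
  obtain ⟨hs, hf, -, hpb⟩ := hq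
  let B : CommRingCat.{u} := Γ(Q.left, ⊤)
  let qS : CommRingCat.of k ⟶ B := Spec.preimage (Q.left.isoSpec.inv ≫ Q.hom)
  let φ : B ⟶ CommRingCat.of AG := Spec.preimage (q.left ≫ Q.left.isoSpec.hom)
  have hφ : Spec.map φ = q.left ≫ Q.left.isoSpec.hom := Spec.map_preimage _
  letI : Algebra k B := qS.hom.toAlgebra
  letI : Algebra B AG := φ.hom.toAlgebra
  have hstr : qS ≫ φ = CommRingCat.ofHom (algebraMap k AG) := by
    apply Spec.map_injective
    rw [Spec.map_comp, hφ, Spec.map_preimage, Category.assoc, Iso.hom_inv_id_assoc]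
    exact Over.w q
  haveI : IsScalarTower k B AG := IsScalarTower.of_algebraMap_eq fun c =>
    (congrArg (fun f : CommRingCat.of k ⟶ CommRingCat.of AG => f.hom c) hstr).symm
  haveI : Flat (q.left ≫ Q.left.isoSpec.hom) := inferInstance
  haveI : Surjective (q.left ≫ Q.left.isoSpec.hom) := inferInstance
  haveI : Module.FaithfullyFlat B AG := by
    have : φ.hom.FaithfullyFlat := by
      rw [RingHom.FaithfullyFlat.iff_flat_and_comap_surjective]
      refine ⟨(HasRingHomProperty.Spec_iff (P := @Flat)).1 (by rw [hφ]; infer_instance), ?_⟩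
      have h : Surjective (Spec.map φ) := by rw [hφ]; infer_instance
      exact h.surj
    exact this
  let δ := coactR ψ
  let il : AG →ₐ[k] AG ⊗[k] AH := Algebra.TensorProduct.includeLeft
  let a := CoactBr.pt il
  let h := CoactBr.pt (Algebra.TensorProduct.includeRight : AH →ₐ[k] AG ⊗[k] AH)
  haveI : IsIso (lift a h) := by
    have e : lift a h ≫ Functor.LaxMonoidal.μ (algSpec (CommRingCat.of k)) (Opposite.op (.of k AG))
        (Opposite.op (.of k AH)) = 𝟙 _ := by
      rw [show lift a h ≫ _ = _ from CoactBr.lift_pt_pt _ _, ← CoactBr.pt_id]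
      congr 1
      exact Algebra.TensorProduct.ext (AlgHom.ext fun x => by simp [il]) (AlgHom.ext fun x => by simp [il])
    haveI : IsIso (lift a h ≫ Functor.LaxMonoidal.μ (algSpec (CommRingCat.of k)) (Opposite.op (.of k AG))
        (Opposite.op (.of k AH))) := by rw [e]; infer_instance
    exact IsIso.of_isIso_comp_right (lift a h) (Functor.LaxMonoidal.μ (algSpec (CommRingCat.of k))
      (Opposite.op (.of k AG)) (Opposite.op (.of k AH)))
  have hδ : lift a h ≫ ((CoactBr.sp k AG) ◁ CoactBr.pt (ψ : AG →ₐ[k] AH)) ≫ μ[CoactBr.sp k AG] = CoactBr.pt δ := by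
    rw [lift_whiskerLeft_assoc, ← Hom.mul_def, ← CoactBr.pt_comp, CoactBr.pt_mul_pt]
    congr 1
    exact congrArg (fun f => AlgHom.comp f (Bialgebra.comulAlgHom k AG))
      (Algebra.TensorProduct.ext (AlgHom.ext fun x => by simp [il]) (AlgHom.ext fun x => by simp [il]))
  have hsq : IsPullback (CoactBr.pt il) (CoactBr.pt δ) q q :=
    hpb.of_iso (asIso (lift a h)).symm (Iso.refl _) (Iso.refl _) (Iso.refl _)
      (by
        simp only [Iso.refl_hom, Category.comp_id, Iso.symm_hom, asIso_inv]
        rw [IsIso.eq_inv_comp]; exact lift_fst _ _)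
      (by
        simp only [Iso.refl_hom, Category.comp_id, Iso.symm_hom, asIso_inv]
        rw [IsIso.eq_inv_comp]; exact hδ)
      (by simp) (by simp)
  have hsqS : IsPullback (Spec.map (CommRingCat.ofHom il.toRingHom)) (Spec.map (CommRingCat.ofHom δ.toRingHom))
      (Spec.map φ) (Spec.map φ) :=
    (hsq.map (Over.forget _)).of_iso (Iso.refl _) (Iso.refl _) (Iso.refl _) Q.left.isoSpec
      (by simp) (by simp) (by simp [hφ]) (by simp [hφ])
  have hB : ∀ b : B, δ (algebraMap B AG b) = algebraMap B AG b ⊗ₜ[k] (1 : AH) := fun b => by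
    have := congrArg (fun f : Spec (CommRingCat.of (AG ⊗[k] AH)) ⟶ Spec B => f) hsqS.w
    simp only [← Spec.map_comp] at this
    exact (congrArg (fun f : B ⟶ CommRingCat.of (AG ⊗[k] AH) => f.hom b) (Spec.map_injective this)).symm
  letI : Algebra B (AG ⊗[k] AH) := Algebra.TensorProduct.leftAlgebra
  let il' : AG →ₐ[B] AG ⊗[k] AH := { il with commutes' := fun b => rfl }
  let δ' : AG →ₐ[B] AG ⊗[k] AH := { δ with commutes' := fun b => hB b }
  let canB : AG ⊗[B] AG →ₐ[B] AG ⊗[k] AH := Algebra.TensorProduct.lift il' δ' fun _ _ => Commute.all _ _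
  have hcan : Function.Bijective canB := by
    have hpo := isPullback_SpecMap_of_isPushout _ _ _ _ (CommRingCat.isPushout_tensorProduct B AG AG)
    have hiso : (hsqS.isoIsPullback _ _ hpo).hom = Spec.map (CommRingCat.ofHom canB.toRingHom) := by
      apply hpo.hom_ext
      · rw [IsPullback.isoIsPullback_hom_fst, ← Spec.map_comp]
        refine congrArg Spec.map (CommRingCat.hom_ext (RingHom.ext fun x => ?_))
        show il x = canB (x ⊗ₜ[B] 1)
        simp [canB, il', δ']
      · rw [IsPullback.isoIsPullback_hom_snd, ← Spec.map_comp]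
        refine congrArg Spec.map (CommRingCat.hom_ext (RingHom.ext fun x => ?_))
        show δ x = canB (1 ⊗ₜ[B] x)
        simp [canB, il', δ']
    haveI : IsIso (Spec.map (CommRingCat.ofHom canB.toRingHom)) := hiso ▸ inferInstance
    haveI : IsIso (CommRingCat.ofHom canB.toRingHom) := by
      haveI : IsIso (Scheme.Spec.map (CommRingCat.ofHom canB.toRingHom).op) := ‹_›
      haveI := isIso_of_reflects_iso (CommRingCat.ofHom canB.toRingHom).op Scheme.Spec
      exact (isIso_op_iff _).1 this
    exact (ConcreteCategory.isIso_iff_bijective (CommRingCat.ofHom canB.toRingHom)).1 inferInstance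
  obtain ⟨Λ, hΛ1, hΛ⟩ := exists_integral hG
  refine isLinearlyReductive_of_localIntegral k AH (hasLocalIntegral (B := B) δ (coactR_coassoc ψ) hB
    (canB.restrictScalars k) (fun a b => rfl) hcan Λ hΛ1 fun g => ?_)
  have e : ∀ y : AG ⊗[k] AG, cL Λ (Algebra.TensorProduct.map (AlgHom.id k AG) (ψ : AG →ₐ[k] AH) y) = ψ (cL Λ y) := by
    intro y
    induction y using TensorProduct.induction_on with
    | zero => simp
    | add p q hp hq => simp only [map_add, hp, hq]
    | tmul a b => simp
  show cL Λ (Algebra.TensorProduct.map (AlgHom.id k AG) (ψ : AG →ₐ[k] AH) (comul g)) = _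
  rw [e, hΛ g]
  exact AlgHomClass.commutes ψ _

end Groth.Agent.ObsAffine
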